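import Cfsg.Agent.Spor.HNP.VB.D0

set_option autoImplicit false
set_option maxRecDepth 100000000
set_option Elab.async false

namespace Cfsg.Agent.Spor.HNP.VB

theorem uok3 : Net.okb 11 un3 = true := by decide +kernel

theorem rel3 : U.rel 11 [7, 4, 2, 4, 2, 3, 3, 2, 4, 2, 4, 4, 2, 3, 3, 2, 3, 1, 4, 1, 4] 0 11 = true := by decide +kernel

theorem uok4 : Net.okb 11 un4 = true := by decide +kernel

theorem rel4 : U.rel 11 [9, 3, 3, 2, 4, 4, 2, 4, 2, 4, 4, 2, 3, 3, 2, 4, 4, 1, 4] 0 11 = true := by decide +kernel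

theorem uok5 : Net.okb 11 un5 = true := by decide +kernel

theorem rel5 : U.rel 11 [11, 3, 2, 3, 2, 4, 2, 4, 4, 2, 3, 3, 2, 3, 2, 4, 4, 1, 3, 1, 3] 0 11 = true := by decide +kernel

theorem uok6 : Net.okb 11 un6 = true := by decide +kernel

theorem rel6 : U.rel 11 [13, 3, 2, 3, 3, 2, 4, 4, 2, 3, 3, 2, 3, 2, 3, 3, 1, 4, 4] 0 11 = true := by decide +kernel

theorem uok7 : Net.okb 11 un7 = true := by decide +kernel

theorem rel7 : U.rel 11 [15, 2, 4, 2, 4, 2, 3, 2, 3, 3, 2, 4, 4, 6, 4, 2, 4, 1] 0 11 = true := by decide +kernel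

theorem uok8 : Net.okb 11 un8 = true := by decide +kernel

theorem rel8 : U.rel 11 [17, 3, 3, 6, 4, 2, 4, 2, 3, 6, 3, 3, 6, 2, 3, 2, 3, 1] 0 11 = true := by decide +kernel

theorem uok9 : Net.okb 11 un9 = true := by decide +kernel

theorem rel9 : U.rel 11 [19, 6, 4, 1, 4, 2, 3, 2, 3, 2, 4, 2, 4, 2, 4, 4, 1, 3] 0 11 = true := by decide +kernel

theorem uok10 : Net.okb 11 un10 = true := by decide +kernel

theorem rel10 : U.rel 11 [21, 6, 1, 3, 3, 2, 4, 2, 4, 6, 2, 4, 4, 6, 4, 4, 5, 4, 4] 0 11 = true := by decide +kernel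

theorem uok11 : Net.okb 11 un11 = true := by decide +kernel

theorem rel11 : U.rel 11 [23, 3, 3, 2, 3, 3, 6, 3, 6, 4, 6, 4, 2, 3, 3, 2, 3, 3, 1, 4, 4] 0 11 = true := by decide +kernel

theorem uok12 : Net.okb 11 un12 = true := by decide +kernel

theorem rel12 : U.rel 11 [25, 3, 6, 4, 6, 4, 4, 4, 2, 3, 2, 4, 2, 4, 4, 5, 3, 3, 1, 3] 0 11 = true := by decide +kernel

theorem uok13 : Net.okb 11 un13 = true := by decide +kernel

theorem rel13 : U.rel 11 [27, 6, 3, 6, 4, 4, 6, 4, 4, 1, 4, 6, 4, 4, 6, 3] 0 11 = true := by decide +kernel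

theorem uok14 : Net.okb 11 un14 = true := by decide +kernel

theorem rel14 : U.rel 11 [29, 3, 3, 2, 4, 4, 2, 3, 3, 2, 3, 3, 2, 3, 3, 2, 3, 3, 1, 4] 0 11 = true := by decide +kernel

theorem uok15 : Net.okb 11 un15 = true := by decide +kernel

theorem rel15 : U.rel 11 [31, 3, 2, 3, 6, 3, 2, 3, 3, 2, 3, 2, 3, 2, 3] 0 11 = true := by decide +kernel

theorem uok16 : Net.okb 11 un16 = true := by decide +kernel

theorem rel16 : U.rel 11 [33, 3, 1, 3, 3, 2, 4, 4] 0 11 = true := by decide +kernel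

theorem uok17 : Net.okb 11 un17 = true := by decide +kernel

theorem rel17 : U.rel 11 [35, 4, 4, 6, 4, 4, 2, 3, 3, 6, 3, 3, 6, 2, 4, 4, 1, 4, 4, 1, 3, 3, 5, 3, 3] 0 11 = true := by decide +kernel

theorem uok18 : Net.okb 11 un18 = true := by decide +kernel

theorem rel18 : U.rel 11 [37, 6, 3, 1, 4, 2, 4, 6, 4, 6, 4, 2, 4, 6, 3, 5, 3, 3, 1, 4, 4] 0 11 = true := by decide +kernel

theorem uok19 : Net.okb 11 un19 = true := by decide +kernel

theorem rel19 : U.rel 11 [39, 4, 6, 4, 6, 4, 6, 4, 4, 6, 3, 3, 6, 3, 6, 4, 5, 4, 2, 3] 0 11 = true := by decide +kernel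

theorem uok20 : Net.okb 11 un20 = true := by decide +kernel

theorem rel20 : U.rel 11 [41, 1, 4, 6, 4, 2, 4, 2, 4, 6, 4, 2, 4, 4, 2, 3, 3, 5, 3, 5] 0 11 = true := by decide +kernel

theorem uok21 : Net.okb 11 un21 = true := by decide +kernel

theorem rel22 : U.rel 11 [43, 7, 7, 9, 9, 9, 7, 9, 7, 9, 7, 7, 9, 7] 0 11 = true := by decide +kernel

theorem uok22 : Net.okb 11 un22 = true := by decide +kernel

theorem rel23 : U.rel 11 [45, 9, 9, 7, 9, 9, 9, 7, 7, 7, 7, 9, 9, 7, 9, 9, 9, 7, 7, 7, 9, 9, 7, 9, 7, 7, 9, 9, 7, 9, 7, 9, 7, 9] 0 11 = true := by decide +kernel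

theorem uok23 : Net.okb 11 un23 = true := by decide +kernel

theorem rel24 : U.rel 11 [47, 9, 7, 7, 7, 7, 7, 9, 9, 7, 9, 9, 9, 9, 9, 7, 9, 7, 9, 7] 0 11 = true := by decide +kernel

theorem gr26 : sub M25 (U.growI W21 [0, 1, 1, 0, 0, 1, 1, 0, 0, 1, 1, 0, 0, 1, 1, 0, 0, 1] (Nat.shiftLeft 1 196)) = true := by decide +kernel

theorem cl28 : band (U.closedW W21 M25) (sub (Nat.shiftLeft 1 196) M25) = true := by decide +kernel

theorem sz29 : sizeOk 11 M25 504 = true := by decide +kernel

theorem fx32 : U.closedW W31 (Nat.shiftLeft 1 196) = true := by decide +kernel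

theorem gr34 : sub M33 (U.growI W31 [0, 1, 2, 1, 0, 0, 1, 2, 1, 0, 0, 1] (Nat.shiftLeft 1 998)) = true := by decide +kernel

theorem cl36 : band (U.closedW W31 M33) (sub (Nat.shiftLeft 1 998) M33) = true := by decide +kernel

theorem sz37 : sizeOk 11 M33 125 = true := by decide +kernel

theorem fx40 : U.closedW W39 (Nat.shiftLeft 1 998) = true := by decide +kernel

theorem gr42 : sub M41 (U.growI W39 [0] (Nat.shiftLeft 1 4)) = true := by decide +kernel

theorem cl44 : band (U.closedW W39 M41) (sub (Nat.shiftLeft 1 4) M41) = true := by decide +kernel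

theorem sz45 : sizeOk 11 M41 2 = true := by decide +kernel

theorem uok24 : Net.okb 11 un24 = true := by decide +kernel

theorem rel50 : U.rel 11 [49, 13, 11, 13, 11, 13, 11, 11, 13, 13, 11, 11] 0 11 = true := by decide +kernel

theorem uok25 : Net.okb 11 un25 = true := by decide +kernel

theorem rel51 : U.rel 11 [51, 13, 11, 11, 11, 11, 13, 13, 11, 13, 11, 11] 0 11 = true := by decide +kernel

theorem uok26 : Net.okb 11 un26 = true := by decide +kernel

theorem rel52 : U.rel 11 [53, 13, 13, 11, 11, 11, 13, 13, 13, 11, 13, 13, 11, 11, 11, 11, 13, 11, 11, 13, 13] 0 11 = true := by decide +kernel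

theorem gr54 : sub M53 (U.growI W49 [0, 1, 1, 0, 0, 1, 1, 0, 0, 1, 1, 0, 0, 1, 1, 0, 0] (Nat.shiftLeft 1 196)) = true := by decide +kernel

theorem cl56 : band (U.closedW W49 M53) (sub (Nat.shiftLeft 1 196) M53) = true := by decide +kernel

theorem sz57 : sizeOk 11 M53 504 = true := by decide +kernel

theorem fx60 : U.closedW W59 (Nat.shiftLeft 1 196) = true := by decide +kernel

theorem uok27 : Net.okb 11 un27 = true := by decide +kernel

theorem rel61 : U.rel 11 [55, 53, 49, 49, 51, 49, 51, 53, 53, 51, 49, 53, 49, 51, 53, 49, 51, 49, 49, 49, 49, 53, 53, 49, 53, 53, 51, 51, 49] 0 11 = true := by decide +kernel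

theorem gr63 : sub M62 (U.growI W59 [0, 1, 2, 2, 1, 0, 0, 1, 2, 2, 1, 0] (Nat.shiftLeft 1 16)) = true := by decide +kernel

theorem cl65 : band (U.closedW W59 M62) (sub (Nat.shiftLeft 1 16) M62) = true := by decide +kernel

theorem sz66 : sizeOk 11 M62 125 = true := by decide +kernel

theorem fx69 : U.closedW W68 (Nat.shiftLeft 1 16) = true := by decide +kernel

theorem gr71 : sub M70 (U.growI W68 [0] (Nat.shiftLeft 1 7)) = true := by decide +kernel

theorem cl73 : band (U.closedW W68 M70) (sub (Nat.shiftLeft 1 7) M70) = true := by decide +kernel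

theorem sz74 : sizeOk 11 M70 2 = true := by decide +kernel

theorem uok28 : Net.okb 11 un28 = true := by decide +kernel

theorem rel79 : U.rel 11 [57, 15, 15, 17, 17, 17, 15, 15, 17, 17, 17, 15, 15, 17, 17, 17, 15, 15, 15] 0 11 = true := by decide +kernel

theorem uok29 : Net.okb 11 un29 = true := by decide +kernel

theorem rel80 : U.rel 11 [59, 17, 17, 17, 17, 15, 15, 17, 15, 15, 17, 17, 15, 17, 17, 15, 15, 17, 17, 15, 17, 15, 15, 17, 17, 15, 17, 15, 15, 15, 15, 15, 17, 15, 15] 0 11 = true := by decide +kernel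

theorem gr82 : sub M81 (U.growI W78 [0, 1, 1, 0, 0, 1, 1, 0, 0, 1, 1, 0, 0, 1, 1, 0, 0, 1, 1] (Nat.shiftLeft 1 6)) = true := by decide +kernel

theorem cl84 : band (U.closedW W78 M81) (sub (Nat.shiftLeft 1 6) M81) = true := by decide +kernel

theorem sz85 : sizeOk 11 M81 672 = true := by decide +kernel

theorem fx88 : U.closedW W87 (Nat.shiftLeft 1 6) = true := by decide +kernel

theorem gr90 : sub M89 (U.growI W87 [1, 1, 0, 1, 1, 0, 1, 1, 0, 1, 1, 0, 1] (Nat.shiftLeft 1 1161)) = true := by decide +kernel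

theorem cl92 : band (U.closedW W87 M89) (sub (Nat.shiftLeft 1 1161) M89) = true := by decide +kernel

theorem sz93 : sizeOk 11 M89 60 = true := by decide +kernel

theorem fx96 : U.closedW W95 (Nat.shiftLeft 1 1161) = true := by decide +kernel

theorem gr98 : sub M97 (U.growI W95 [0] (Nat.shiftLeft 1 0)) = true := by decide +kernel

theorem cl100 : band (U.closedW W95 M97) (sub (Nat.shiftLeft 1 0) M97) = true := by decide +kernel

theorem sz101 : sizeOk 11 M97 2 = true := by decide +kernel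

theorem uok30 : Net.okb 11 un30 = true := by decide +kernel

theorem rel106 : U.rel 11 [61, 21, 21, 21, 19, 21, 21, 19, 19, 19, 21, 21, 21, 21, 21, 21, 19, 21, 21, 19, 21] 0 11 = true := by decide +kernel

theorem uok31 : Net.okb 11 un31 = true := by decide +kernel

theorem rel107 : U.rel 11 [63, 19, 19, 21, 21, 19, 19, 21, 19, 21, 21, 19, 19, 19, 19, 21, 19, 21, 21, 19, 19, 21, 21, 21, 21, 21, 19, 19, 19, 21, 19, 21, 19, 19, 21, 21, 21, 19, 19, 21, 19, 19, 21, 19, 19, 19, 21, 19, 21, 21, 21, 19, 19] 0 11 = true := by decide +kernel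

theorem gr109 : sub M108 (U.growI W105 [0, 1, 1, 0, 0, 1, 1, 0, 0, 1, 1, 0, 0, 1, 1, 0, 0, 1, 1, 0, 0, 1, 1, 0, 0] (Nat.shiftLeft 1 16)) = true := by decide +kernel

theorem cl111 : band (U.closedW W105 M108) (sub (Nat.shiftLeft 1 16) M108) = true := by decide +kernel

theorem sz112 : sizeOk 11 M108 504 = true := by decide +kernel

theorem fx115 : U.closedW W114 (Nat.shiftLeft 1 16) = true := by decide +kernel

theorem gr117 : sub M116 (U.growI W114 [0, 1, 1, 0] (Nat.shiftLeft 1 17)) = true := by decide +kernel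

theorem cl119 : band (U.closedW W114 M116) (sub (Nat.shiftLeft 1 17) M116) = true := by decide +kernel

theorem sz120 : sizeOk 11 M116 10 = true := by decide +kernel

theorem uok32 : Net.okb 11 un32 = true := by decide +kernel

theorem rel124 : U.rel 11 [65, 23, 23, 25, 25, 25, 25, 25, 23, 25, 25, 23, 23, 23, 25, 25, 25, 25, 23] 0 11 = true := by decide +kernel

theorem uok33 : Net.okb 11 un33 = true := by decide +kernel

theorem rel125 : U.rel 11 [67, 25, 25, 23, 25, 23, 23, 23, 25, 23, 25, 23, 23, 23, 23, 25, 25, 25, 25, 25, 23, 23, 23, 25, 23, 23, 23, 25, 25] 0 11 = true := by decide +kernel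

theorem gr127 : sub M126 (U.growI W123 [0, 1, 1, 0, 0, 1, 1, 0, 0, 1, 1, 0, 0, 1, 1, 0] (Nat.shiftLeft 1 17)) = true := by decide +kernel

theorem cl129 : band (U.closedW W123 M126) (sub (Nat.shiftLeft 1 17) M126) = true := by decide +kernel

theorem sz130 : sizeOk 11 M126 360 = true := by decide +kernel

theorem fx133 : U.closedW W132 (Nat.shiftLeft 1 17) = true := by decide +kernel

theorem gr135 : sub M134 (U.growI W132 [0, 1] (Nat.shiftLeft 1 6)) = true := by decide +kernel

theorem cl137 : band (U.closedW W132 M134) (sub (Nat.shiftLeft 1 6) M134) = true := by decide +kernel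

theorem sz138 : sizeOk 11 M134 4 = true := by decide +kernel

theorem uok34 : Net.okb 11 un34 = true := by decide +kernel

theorem rel142 : U.rel 11 [69, 29, 27, 29, 27, 29, 29, 29, 27, 29, 27, 29, 29, 29, 29, 29, 27, 27, 29, 27, 27, 27, 29, 27] 0 11 = true := by decide +kernel

theorem gr144 : sub M143 (U.growI W141 [0, 1, 1, 0, 0, 1, 1, 0, 0, 1, 1, 0, 0, 1, 1, 0, 0, 1, 1, 0] (Nat.shiftLeft 1 15)) = true := by decide +kernel

theorem cl146 : band (U.closedW W141 M143) (sub (Nat.shiftLeft 1 15) M143) = true := by decide +kernel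

theorem sz147 : sizeOk 11 M143 250 = true := by decide +kernel

theorem fx150 : U.closedW W149 (Nat.shiftLeft 1 15) = true := by decide +kernel

theorem gr152 : sub M151 (U.growI W149 [0] (Nat.shiftLeft 1 6)) = true := by decide +kernel

theorem cl154 : band (U.closedW W149 M151) (sub (Nat.shiftLeft 1 6) M151) = true := by decide +kernel

theorem sz155 : sizeOk 11 M151 2 = true := by decide +kernel

theorem uok35 : Net.okb 11 un35 = true := by decide +kernel

theorem rel159 : U.rel 11 [71, 31, 31, 31, 33, 31, 33, 31, 33, 33, 33, 31, 31, 33, 33, 33, 31, 31, 33, 33, 31, 31, 31, 33, 33, 31, 31, 31, 33, 33, 31, 33, 31, 33, 31, 33, 33, 33] 0 11 = true := by decide +kernel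

theorem gr161 : sub M160 (U.growI W158 [0, 1, 1, 0, 0, 1, 1, 0, 0, 1, 1, 0, 0, 1] (Nat.shiftLeft 1 16)) = true := by decide +kernel

theorem cl163 : band (U.closedW W158 M160) (sub (Nat.shiftLeft 1 16) M160) = true := by decide +kernel

theorem sz164 : sizeOk 11 M160 120 = true := by decide +kernel

theorem fx167 : U.closedW W166 (Nat.shiftLeft 1 16) = true := by decide +kernel

theorem gr169 : sub M168 (U.growI W166 [0] (Nat.shiftLeft 1 4)) = true := by decide +kernel

theorem cl171 : band (U.closedW W166 M168) (sub (Nat.shiftLeft 1 4) M168) = true := by decide +kernel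

theorem sz172 : sizeOk 11 M168 2 = true := by decide +kernel

theorem uok36 : Net.okb 11 un36 = true := by decide +kernel

theorem rel176 : U.rel 11 [73, 37, 37, 37, 35, 35, 35, 35, 37, 35, 37, 35, 37, 37, 35, 37, 35, 37, 37, 37, 37, 37, 37, 35, 37, 37, 37, 37, 37, 37, 35] 0 11 = true := by decide +kernel

theorem gr178 : sub M177 (U.growI W175 [0, 1, 1, 0, 1, 1, 0, 1, 1, 0, 1, 1, 0, 1, 1, 0, 1, 1, 0, 1, 1, 1] (Nat.shiftLeft 1 4)) = true := by decide +kernel

theorem cl180 : band (U.closedW W175 M177) (sub (Nat.shiftLeft 1 4) M177) = true := by decide +kernel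

theorem sz181 : sizeOk 11 M177 320 = true := by decide +kernel

theorem fx184 : U.closedW W183 (Nat.shiftLeft 1 4) = true := by decide +kernel

theorem gr186 : sub M185 (U.growI W183 [0] (Nat.shiftLeft 1 7)) = true := by decide +kernel

theorem cl188 : band (U.closedW W183 M185) (sub (Nat.shiftLeft 1 7) M185) = true := by decide +kernel

theorem sz189 : sizeOk 11 M185 2 = true := by decide +kernel

theorem uok37 : Net.okb 11 un37 = true := by decide +kernel

theorem rel193 : U.rel 11 [75, 41, 41, 41, 39, 39, 39, 39, 39, 39, 41, 41, 41, 41, 39, 39, 41, 41] 0 11 = true := by decide +kernel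

theorem uok38 : Net.okb 11 un38 = true := by decide +kernel

theorem rel194 : U.rel 11 [77, 41, 39, 39, 41, 41, 39, 41, 41, 41, 39, 41, 41, 39, 39, 39, 41, 39, 39, 41, 41, 41, 39] 0 11 = true := by decide +kernel

theorem gr196 : sub M195 (U.growI W192 [0, 1, 1, 0, 0, 1, 1, 0, 0, 1, 1, 0, 0, 1, 1, 0, 0, 1, 1, 0] (Nat.shiftLeft 1 0)) = true := by decide +kernel

theorem cl198 : band (U.closedW W192 M195) (sub (Nat.shiftLeft 1 0) M195) = true := by decide +kernel

theorem sz199 : sizeOk 11 M195 1280 = true := by decide +kernel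

theorem fx202 : U.closedW W201 (Nat.shiftLeft 1 0) = true := by decide +kernel

theorem gr204 : sub M203 (U.growI W201 [0, 1, 1, 0, 0, 1, 1] (Nat.shiftLeft 1 18)) = true := by decide +kernel

theorem cl206 : band (U.closedW W201 M203) (sub (Nat.shiftLeft 1 18) M203) = true := by decide +kernel

theorem sz207 : sizeOk 11 M203 24 = true := by decide +kernel

end Cfsg.Agent.Spor.HNP.VB
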