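import Cfsg.Agent.Spor.Prim
import Cfsg.Agent.Spor.HNP.Main
import Cfsg.Agent.Spor.HNP.VB.C0
import Cfsg.Agent.Spor.TT2
import Cfsg.Agent.Spor.DE3
import Cfsg.Agent.Spor.HNP.Grp

set_option autoImplicit false
set_option maxRecDepth 100000000
set_option Elab.async false

namespace Cfsg.Agent.Spor.HNP.VB

theorem hU : U.Ok 11 := U.ok_of 11 (show AllP (fun n => Net.okb 11 n = true) [n0, n1, n2, un3, un4, un5, un6, un7, un8, un9, un10, un11, un12, un13, un14, un15, un16, un17, un18, un19, un20, un21, un22, un23, un24, un25, un26, un27, un28, un29, un30, un31, un32, un33, un34, un35, un36, un37, un38] from AllP.cons ok0 (AllP.cons ok1 (AllP.cons ok2 (AllP.cons uok3 (AllP.cons uok4 (AllP.cons uok5 (AllP.cons uok6 (AllP.cons uok7 (AllP.cons uok8 (AllP.cons uok9 (AllP.cons uok10 (AllP.cons uok11 (AllP.cons uok12 (AllP.cons uok13 (AllP.cons uok14 (AllP.cons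 uok15 (AllP.cons uok16 (AllP.cons uok17 (AllP.cons uok18 (AllP.cons uok19 (AllP.cons uok20 (AllP.cons uok21 (AllP.cons uok22 (AllP.cons uok23 (AllP.cons uok24 (AllP.cons uok25 (AllP.cons uok26 (AllP.cons uok27 (AllP.cons uok28 (AllP.cons uok29 (AllP.cons uok30 (AllP.cons uok31 (AllP.cons uok32 (AllP.cons uok33 (AllP.cons uok34 (AllP.cons uok35 (AllP.cons uok36 (AllP.cons uok37 (AllP.cons uok38 (AllP.nil))))))))))))))))))))))))))))))))))))))))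

theorem hfP : ∀ j < 3, U.fP [1, 3, 5] j = fP j := by
  intro j hj
  interval_cases j <;> rfl
theorem eG : gsub 3 fP = U.lsub W1 := (gsub_congr hfP).symm.trans (lsub_eq_gsub U [1, 3, 5])
theorem upz1 : ev (atm 3 fP) [0] = U.τ 1 := pz1
theorem upz3 : ev (atm 3 fP) [2] = U.τ 3 := pz2
theorem upz5 : ev (atm 3 fP) [4] = U.τ 5 := pz3
theorem eH : wsub 3 fP BW = U.lsub W2 :=
  lsub_eq_of_all₂ (show List.Forall₂ _ [] [] from List.Forall₂.nil)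
theorem vpz1 : PZ U (atm 3 fP) EXU 1 := pz1
theorem vpz2 : PZ U (atm 3 fP) EXU 2 := PZ.of_inv hiv vpz1 (by decide +kernel)
theorem vpz3 : PZ U (atm 3 fP) EXU 3 := pz2
theorem vpz4 : PZ U (atm 3 fP) EXU 4 := PZ.of_inv hiv vpz3 (by decide +kernel)
theorem vpz5 : PZ U (atm 3 fP) EXU 5 := pz3
theorem vpz6 : PZ U (atm 3 fP) EXU 6 := PZ.of_inv hiv vpz5 (by decide +kernel)
theorem vpz7 : PZ U (atm 3 fP) EXU 7 := PZ.of_def hiv (d := [4, 2, 4, 2, 3, 3, 2, 4, 2, 4, 4, 2, 3, 3, 2, 3, 1, 4, 1, 4]) (AllP.cons vpz4 (AllP.cons vpz2 (AllP.cons vpz4 (AllP.cons vpz2 (AllP.cons vpz3 (AllP.cons vpz3 (AllP.cons vpz2 (AllP.cons vpz4 (AllP.cons vpz2 (AllP.cons vpz4 (AllP.cons vpz4 (AllP.cons vpz2 (AllP.cons vpz3 (AllP.cons vpz3 (AllP.cons vpz2 (AllP.cons vpz3 (AllP.cons vpz1 (AllP.cons vpz4 (AllP.cons vpz1 (AllP.cons vpz4 (AllP.nil))))))))))))))))))))) (hU.one rel3)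 (by decide +kernel)
theorem vpz8 : PZ U (atm 3 fP) EXU 8 := PZ.of_inv hiv vpz7 (by decide +kernel)
theorem vpz9 : PZ U (atm 3 fP) EXU 9 := PZ.of_def hiv (d := [3, 3, 2, 4, 4, 2, 4, 2, 4, 4, 2, 3, 3, 2, 4, 4, 1, 4]) (AllP.cons vpz3 (AllP.cons vpz3 (AllP.cons vpz2 (AllP.cons vpz4 (AllP.cons vpz4 (AllP.cons vpz2 (AllP.cons vpz4 (AllP.cons vpz2 (AllP.cons vpz4 (AllP.cons vpz4 (AllP.cons vpz2 (AllP.cons vpz3 (AllP.cons vpz3 (AllP.cons vpz2 (AllP.cons vpz4 (AllP.cons vpz4 (AllP.cons vpz1 (AllP.cons vpz4 (AllP.nil))))))))))))))))))) (hU.one rel4) (by decide +kernel)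
theorem vpz10 : PZ U (atm 3 fP) EXU 10 := PZ.of_inv hiv vpz9 (by decide +kernel)
theorem vpz11 : PZ U (atm 3 fP) EXU 11 := PZ.of_def hiv (d := [3, 2, 3, 2, 4, 2, 4, 4, 2, 3, 3, 2, 3, 2, 4, 4, 1, 3, 1, 3]) (AllP.cons vpz3 (AllP.cons vpz2 (AllP.cons vpz3 (AllP.cons vpz2 (AllP.cons vpz4 (AllP.cons vpz2 (AllP.cons vpz4 (AllP.cons vpz4 (AllP.cons vpz2 (AllP.cons vpz3 (AllP.cons vpz3 (AllP.cons vpz2 (AllP.cons vpz3 (AllP.cons vpz2 (AllP.cons vpz4 (AllP.cons vpz4 (AllP.cons vpz1 (AllP.cons vpz3 (AllP.cons vpz1 (AllP.cons vpz3 (AllP.nil))))))))))))))))))))) (hU.one rel5) (by decide +kernel)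
theorem vpz12 : PZ U (atm 3 fP) EXU 12 := PZ.of_inv hiv vpz11 (by decide +kernel)
theorem vpz13 : PZ U (atm 3 fP) EXU 13 := PZ.of_def hiv (d := [3, 2, 3, 3, 2, 4, 4, 2, 3, 3, 2, 3, 2, 3, 3, 1, 4, 4]) (AllP.cons vpz3 (AllP.cons vpz2 (AllP.cons vpz3 (AllP.cons vpz3 (AllP.cons vpz2 (AllP.cons vpz4 (AllP.cons vpz4 (AllP.cons vpz2 (AllP.cons vpz3 (AllP.cons vpz3 (AllP.cons vpz2 (AllP.cons vpz3 (AllP.cons vpz2 (AllP.cons vpz3 (AllP.cons vpz3 (AllP.cons vpz1 (AllP.cons vpz4 (AllP.cons vpz4 (AllP.nil))))))))))))))))))) (hU.one rel6) (by decide +kernel)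
theorem vpz14 : PZ U (atm 3 fP) EXU 14 := PZ.of_inv hiv vpz13 (by decide +kernel)
theorem vpz15 : PZ U (atm 3 fP) EXU 15 := PZ.of_def hiv (d := [2, 4, 2, 4, 2, 3, 2, 3, 3, 2, 4, 4, 6, 4, 2, 4, 1]) (AllP.cons vpz2 (AllP.cons vpz4 (AllP.cons vpz2 (AllP.cons vpz4 (AllP.cons vpz2 (AllP.cons vpz3 (AllP.cons vpz2 (AllP.cons vpz3 (AllP.cons vpz3 (AllP.cons vpz2 (AllP.cons vpz4 (AllP.cons vpz4 (AllP.cons vpz6 (AllP.cons vpz4 (AllP.cons vpz2 (AllP.cons vpz4 (AllP.cons vpz1 (AllP.nil)))))))))))))))))) (hU.one rel7) (by decide +kernel)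
theorem vpz16 : PZ U (atm 3 fP) EXU 16 := PZ.of_inv hiv vpz15 (by decide +kernel)
theorem vpz17 : PZ U (atm 3 fP) EXU 17 := PZ.of_def hiv (d := [3, 3, 6, 4, 2, 4, 2, 3, 6, 3, 3, 6, 2, 3, 2, 3, 1]) (AllP.cons vpz3 (AllP.cons vpz3 (AllP.cons vpz6 (AllP.cons vpz4 (AllP.cons vpz2 (AllP.cons vpz4 (AllP.cons vpz2 (AllP.cons vpz3 (AllP.cons vpz6 (AllP.cons vpz3 (AllP.cons vpz3 (AllP.cons vpz6 (AllP.cons vpz2 (AllP.cons vpz3 (AllP.cons vpz2 (AllP.cons vpz3 (AllP.cons vpz1 (AllP.nil)))))))))))))))))) (hU.one rel8) (by decide +kernel)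
theorem vpz18 : PZ U (atm 3 fP) EXU 18 := PZ.of_inv hiv vpz17 (by decide +kernel)
theorem vpz19 : PZ U (atm 3 fP) EXU 19 := PZ.of_def hiv (d := [6, 4, 1, 4, 2, 3, 2, 3, 2, 4, 2, 4, 2, 4, 4, 1, 3]) (AllP.cons vpz6 (AllP.cons vpz4 (AllP.cons vpz1 (AllP.cons vpz4 (AllP.cons vpz2 (AllP.cons vpz3 (AllP.cons vpz2 (AllP.cons vpz3 (AllP.cons vpz2 (AllP.cons vpz4 (AllP.cons vpz2 (AllP.cons vpz4 (AllP.cons vpz2 (AllP.cons vpz4 (AllP.cons vpz4 (AllP.cons vpz1 (AllP.cons vpz3 (AllP.nil)))))))))))))))))) (hU.one rel9) (by decide +kernel)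
theorem vpz20 : PZ U (atm 3 fP) EXU 20 := PZ.of_inv hiv vpz19 (by decide +kernel)
theorem vpz21 : PZ U (atm 3 fP) EXU 21 := PZ.of_def hiv (d := [6, 1, 3, 3, 2, 4, 2, 4, 6, 2, 4, 4, 6, 4, 4, 5, 4, 4]) (AllP.cons vpz6 (AllP.cons vpz1 (AllP.cons vpz3 (AllP.cons vpz3 (AllP.cons vpz2 (AllP.cons vpz4 (AllP.cons vpz2 (AllP.cons vpz4 (AllP.cons vpz6 (AllP.cons vpz2 (AllP.cons vpz4 (AllP.cons vpz4 (AllP.cons vpz6 (AllP.cons vpz4 (AllP.cons vpz4 (AllP.cons vpz5 (AllP.cons vpz4 (AllP.cons vpz4 (AllP.nil))))))))))))))))))) (hU.one rel10) (by decide +kernel)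
theorem vpz22 : PZ U (atm 3 fP) EXU 22 := PZ.of_inv hiv vpz21 (by decide +kernel)
theorem vpz23 : PZ U (atm 3 fP) EXU 23 := PZ.of_def hiv (d := [3, 3, 2, 3, 3, 6, 3, 6, 4, 6, 4, 2, 3, 3, 2, 3, 3, 1, 4, 4]) (AllP.cons vpz3 (AllP.cons vpz3 (AllP.cons vpz2 (AllP.cons vpz3 (AllP.cons vpz3 (AllP.cons vpz6 (AllP.cons vpz3 (AllP.cons vpz6 (AllP.cons vpz4 (AllP.cons vpz6 (AllP.cons vpz4 (AllP.cons vpz2 (AllP.cons vpz3 (AllP.cons vpz3 (AllP.cons vpz2 (AllP.cons vpz3 (AllP.cons vpz3 (AllP.cons vpz1 (AllP.cons vpz4 (AllP.cons vpz4 (AllP.nil))))))))))))))))))))) (hU.one rel11) (by decide +kernel)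
theorem vpz24 : PZ U (atm 3 fP) EXU 24 := PZ.of_inv hiv vpz23 (by decide +kernel)
theorem vpz25 : PZ U (atm 3 fP) EXU 25 := PZ.of_def hiv (d := [3, 6, 4, 6, 4, 4, 4, 2, 3, 2, 4, 2, 4, 4, 5, 3, 3, 1, 3]) (AllP.cons vpz3 (AllP.cons vpz6 (AllP.cons vpz4 (AllP.cons vpz6 (AllP.cons vpz4 (AllP.cons vpz4 (AllP.cons vpz4 (AllP.cons vpz2 (AllP.cons vpz3 (AllP.cons vpz2 (AllP.cons vpz4 (AllP.cons vpz2 (AllP.cons vpz4 (AllP.cons vpz4 (AllP.cons vpz5 (AllP.cons vpz3 (AllP.cons vpz3 (AllP.cons vpz1 (AllP.cons vpz3 (AllP.nil)))))))))))))))))))) (hU.one rel12) (by decide +kernel)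
theorem vpz26 : PZ U (atm 3 fP) EXU 26 := PZ.of_inv hiv vpz25 (by decide +kernel)
theorem vpz27 : PZ U (atm 3 fP) EXU 27 := PZ.of_def hiv (d := [6, 3, 6, 4, 4, 6, 4, 4, 1, 4, 6, 4, 4, 6, 3]) (AllP.cons vpz6 (AllP.cons vpz3 (AllP.cons vpz6 (AllP.cons vpz4 (AllP.cons vpz4 (AllP.cons vpz6 (AllP.cons vpz4 (AllP.cons vpz4 (AllP.cons vpz1 (AllP.cons vpz4 (AllP.cons vpz6 (AllP.cons vpz4 (AllP.cons vpz4 (AllP.cons vpz6 (AllP.cons vpz3 (AllP.nil)))))))))))))))) (hU.one rel13) (by decide +kernel)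
theorem vpz28 : PZ U (atm 3 fP) EXU 28 := PZ.of_inv hiv vpz27 (by decide +kernel)
theorem vpz29 : PZ U (atm 3 fP) EXU 29 := PZ.of_def hiv (d := [3, 3, 2, 4, 4, 2, 3, 3, 2, 3, 3, 2, 3, 3, 2, 3, 3, 1, 4]) (AllP.cons vpz3 (AllP.cons vpz3 (AllP.cons vpz2 (AllP.cons vpz4 (AllP.cons vpz4 (AllP.cons vpz2 (AllP.cons vpz3 (AllP.cons vpz3 (AllP.cons vpz2 (AllP.cons vpz3 (AllP.cons vpz3 (AllP.cons vpz2 (AllP.cons vpz3 (AllP.cons vpz3 (AllP.cons vpz2 (AllP.cons vpz3 (AllP.cons vpz3 (AllP.cons vpz1 (AllP.cons vpz4 (AllP.nil)))))))))))))))))))) (hU.one rel14) (by decide +kernel)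
theorem vpz30 : PZ U (atm 3 fP) EXU 30 := PZ.of_inv hiv vpz29 (by decide +kernel)
theorem vpz31 : PZ U (atm 3 fP) EXU 31 := PZ.of_def hiv (d := [3, 2, 3, 6, 3, 2, 3, 3, 2, 3, 2, 3, 2, 3]) (AllP.cons vpz3 (AllP.cons vpz2 (AllP.cons vpz3 (AllP.cons vpz6 (AllP.cons vpz3 (AllP.cons vpz2 (AllP.cons vpz3 (AllP.cons vpz3 (AllP.cons vpz2 (AllP.cons vpz3 (AllP.cons vpz2 (AllP.cons vpz3 (AllP.cons vpz2 (AllP.cons vpz3 (AllP.nil))))))))))))))) (hU.one rel15) (by decide +kernel)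
theorem vpz32 : PZ U (atm 3 fP) EXU 32 := PZ.of_inv hiv vpz31 (by decide +kernel)
theorem vpz33 : PZ U (atm 3 fP) EXU 33 := PZ.of_def hiv (d := [3, 1, 3, 3, 2, 4, 4]) (AllP.cons vpz3 (AllP.cons vpz1 (AllP.cons vpz3 (AllP.cons vpz3 (AllP.cons vpz2 (AllP.cons vpz4 (AllP.cons vpz4 (AllP.nil)))))))) (hU.one rel16) (by decide +kernel)
theorem vpz34 : PZ U (atm 3 fP) EXU 34 := PZ.of_inv hiv vpz33 (by decide +kernel)
theorem vpz35 : PZ U (atm 3 fP) EXU 35 := PZ.of_def hiv (d := [4, 4, 6, 4, 4, 2, 3, 3, 6, 3, 3, 6, 2, 4, 4, 1, 4, 4, 1, 3, 3, 5, 3, 3]) (AllP.cons vpz4 (AllP.cons vpz4 (AllP.cons vpz6 (AllP.cons vpz4 (AllP.cons vpz4 (AllP.cons vpz2 (AllP.cons vpz3 (AllP.cons vpz3 (AllP.cons vpz6 (AllP.cons vpz3 (AllP.cons vpz3 (AllP.cons vpz6 (AllP.cons vpz2 (AllP.cons vpz4 (AllP.cons vpz4 (AllP.cons vpz1 (AllP.cons vpz4 (AllP.cons vpz4 (AllP.cons vpz1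 (AllP.cons vpz3 (AllP.cons vpz3 (AllP.cons vpz5 (AllP.cons vpz3 (AllP.cons vpz3 (AllP.nil))))))))))))))))))))))))) (hU.one rel17) (by decide +kernel)
theorem vpz36 : PZ U (atm 3 fP) EXU 36 := PZ.of_inv hiv vpz35 (by decide +kernel)
theorem vpz37 : PZ U (atm 3 fP) EXU 37 := PZ.of_def hiv (d := [6, 3, 1, 4, 2, 4, 6, 4, 6, 4, 2, 4, 6, 3, 5, 3, 3, 1, 4, 4]) (AllP.cons vpz6 (AllP.cons vpz3 (AllP.cons vpz1 (AllP.cons vpz4 (AllP.cons vpz2 (AllP.cons vpz4 (AllP.cons vpz6 (AllP.cons vpz4 (AllP.cons vpz6 (AllP.cons vpz4 (AllP.cons vpz2 (AllP.cons vpz4 (AllP.cons vpz6 (AllP.cons vpz3 (AllP.cons vpz5 (AllP.cons vpz3 (AllP.cons vpz3 (AllP.cons vpz1 (AllP.cons vpz4 (AllP.cons vpz4 (AllP.nil))))))))))))))))))))) (hU.one rel18) (by decide +kernel)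
theorem vpz38 : PZ U (atm 3 fP) EXU 38 := PZ.of_inv hiv vpz37 (by decide +kernel)
theorem vpz39 : PZ U (atm 3 fP) EXU 39 := PZ.of_def hiv (d := [4, 6, 4, 6, 4, 6, 4, 4, 6, 3, 3, 6, 3, 6, 4, 5, 4, 2, 3]) (AllP.cons vpz4 (AllP.cons vpz6 (AllP.cons vpz4 (AllP.cons vpz6 (AllP.cons vpz4 (AllP.cons vpz6 (AllP.cons vpz4 (AllP.cons vpz4 (AllP.cons vpz6 (AllP.cons vpz3 (AllP.cons vpz3 (AllP.cons vpz6 (AllP.cons vpz3 (AllP.cons vpz6 (AllP.cons vpz4 (AllP.cons vpz5 (AllP.cons vpz4 (AllP.cons vpz2 (AllP.cons vpz3 (AllP.nil)))))))))))))))))))) (hU.one rel19) (by decide +kernel)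
theorem vpz40 : PZ U (atm 3 fP) EXU 40 := PZ.of_inv hiv vpz39 (by decide +kernel)
theorem vpz41 : PZ U (atm 3 fP) EXU 41 := PZ.of_def hiv (d := [1, 4, 6, 4, 2, 4, 2, 4, 6, 4, 2, 4, 4, 2, 3, 3, 5, 3, 5]) (AllP.cons vpz1 (AllP.cons vpz4 (AllP.cons vpz6 (AllP.cons vpz4 (AllP.cons vpz2 (AllP.cons vpz4 (AllP.cons vpz2 (AllP.cons vpz4 (AllP.cons vpz6 (AllP.cons vpz4 (AllP.cons vpz2 (AllP.cons vpz4 (AllP.cons vpz4 (AllP.cons vpz2 (AllP.cons vpz3 (AllP.cons vpz3 (AllP.cons vpz5 (AllP.cons vpz3 (AllP.cons vpz5 (AllP.nil)))))))))))))))))))) (hU.one rel20) (by decide +kernel)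
theorem vpz42 : PZ U (atm 3 fP) EXU 42 := PZ.of_inv hiv vpz41 (by decide +kernel)
theorem hPZU : AllP (PZ U (atm 3 fP) EXU) LU :=
  show AllP (PZ U (atm 3 fP) EXU) [1, 2, 3, 4, 5, 6, 7, 8, 9, 10, 11, 12, 13, 14, 15, 16, 17, 18, 19, 20, 21, 22, 23, 24, 25, 26, 27, 28, 29, 30, 31, 32, 33, 34, 35, 36, 37, 38, 39, 40, 41, 42] from AllP.cons vpz1 (AllP.cons vpz2 (AllP.cons vpz3 (AllP.cons vpz4 (AllP.cons vpz5 (AllP.cons vpz6 (AllP.cons vpz7 (AllP.cons vpz8 (AllP.cons vpz9 (AllP.cons vpz10 (AllP.cons vpz11 (AllP.cons vpz12 (AllP.cons vpz13 (AllP.cons vpz14 (AllP.cons vpz15 (AllP.cons vpz16 (AllP.cons vpz17 (AllP.cons vpz18 (AllP.cons vpz19 (AllP.cons vpz20 (AllP.cons vpz21 (AllP.cons vpz22 (AllP.cons vpz23 (AllP.cons vpz24 (AllP.cons vpz25 (AllP.cons vpz26 (AllP.cons vpz27 (AllP.cons vpz28 (AllP.cons vpz29 (AllP.cons vpz30 (AllP.cons vpz31 (AllP.cons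 vpz32 (AllP.cons vpz33 (AllP.cons vpz34 (AllP.cons vpz35 (AllP.cons vpz36 (AllP.cons vpz37 (AllP.cons vpz38 (AllP.cons vpz39 (AllP.cons vpz40 (AllP.cons vpz41 (AllP.cons vpz42 (AllP.nil))))))))))))))))))))))))))))))))))))))))))
theorem eL : wsub 3 fP [[2, 0, 2, 0, 3, 3, 0, 2, 0, 2, 2, 0, 3, 3, 0, 3, 1, 2, 1, 2], [3, 3, 0, 2, 2, 0, 2, 0, 2, 2, 0, 3, 3, 0, 2, 2, 1, 2]] = U.lsub W21 :=
  lsub_eq_of_all₂ (show List.Forall₂ _ [[2, 0, 2, 0, 3, 3, 0, 2, 0, 2, 2, 0, 3, 3, 0, 3, 1, 2, 1, 2], [3, 3, 0, 2, 2, 0, 2, 0, 2, 2, 0, 3, 3, 0, 2, 2, 1, 2]] [[7], [9]] from List.Forall₂.cons ((show ev (atm 3 fP) [2, 0, 2, 0, 3, 3, 0, 2, 0, 2, 2, 0, 3, 3, 0, 3, 1, 2, 1, 2] = U.τ 7 from vpz7).trans (one_mul _).symm) (List.Forall₂.cons ((show ev (atm 3 fP) [3, 3, 0, 2, 2, 0, 2, 0, 2, 2, 0, 3, 3, 0, 2, 2, 1, 2] = U.τ 9 from vpz9).trans (one_mul _).symm) (List.Forall₂.nil)))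
theorem reach27 : Reach (U.lsub W21) 196 M25 := (Reach.grow hU (Reach.base _ 196) gr26)
theorem orb30 : (orbS (U.lsub W21) 196).ncard = 504 := reach27.ncard hU cl28 sz29
theorem orb30e : orbS (U.lsub W21) 196 = {c | Nat.testBit M25 c = true} := reach27.orb hU cl28
theorem reach35 : Reach (U.lsub W31) 998 M33 := (Reach.grow hU (Reach.base _ 998) gr34)
theorem orb38 : (orbS (U.lsub W31) 998).ncard = 125 := reach35.ncard hU cl36 sz37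
theorem orb38e : orbS (U.lsub W31) 998 = {c | Nat.testBit M33 c = true} := reach35.orb hU cl36
theorem reach43 : Reach (U.lsub W39) 4 M41 := (Reach.grow hU (Reach.base _ 4) gr42)
theorem orb46 : (orbS (U.lsub W39) 4).ncard = 2 := reach43.ncard hU cl44 sz45
theorem orb46e : orbS (U.lsub W39) 4 = {c | Nat.testBit M41 c = true} := reach43.orb hU cl44
theorem lbL47 : 2 ∣ Nat.card (U.lsub W39) := dvd_card_orb orb46
theorem lbL48 : 250 ∣ Nat.card (U.lsub W31) :=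
  dvd_card_step (s := 125) (M := 2) (B := U.lsub W39) (U.lsub_sub (by decide)) (hU.fixes fx40) orb38 lbL47
theorem lbL : 126000 ∣ Nat.card (U.lsub W21) :=
  dvd_card_step (s := 504) (M := 250) (B := U.lsub W31) (Tab.lsub_le_all (AllP.cons (mem_of_rel (hU.one rel22) (U.mem_letters (by decide))) (AllP.cons (mem_of_rel (hU.one rel23) (U.mem_letters (by decide))) (AllP.cons (mem_of_rel (hU.one rel24) (U.mem_letters (by decide))) (AllP.nil))))) (hU.fixes fx32) orb30 lbL48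
theorem cardL : 126000 ∣ Nat.card (wsub 3 p [[2, 0, 2, 0, 3, 3, 0, 2, 0, 2, 2, 0, 3, 3, 0, 3, 1, 2, 1, 2], [3, 3, 0, 2, 2, 0, 2, 0, 2, 2, 0, 3, 3, 0, 2, 2, 1, 2]]) := by
  rw [card_wsub_lift, eL]; exact lbL
theorem eS1 : wsub 3 fP [[3, 0, 3, 0, 2, 0, 2, 2, 0, 3, 3, 0, 3, 0, 2, 2, 1, 3, 1, 3], [3, 0, 3, 3, 0, 2, 2, 0, 3, 3, 0, 3, 0, 3, 3, 1, 2, 2]] = U.lsub W49 :=
  lsub_eq_of_all₂ (show List.Forall₂ _ [[3, 0, 3, 0, 2, 0, 2, 2, 0, 3, 3, 0, 3, 0, 2, 2, 1, 3, 1, 3], [3, 0, 3, 3, 0, 2, 2, 0, 3, 3, 0, 3, 0, 3, 3, 1, 2, 2]] [[11], [13]] from List.Forall₂.cons ((show ev (atm 3 fP) [3, 0, 3, 0, 2, 0, 2, 2, 0, 3, 3, 0, 3, 0, 2, 2, 1, 3, 1, 3] = U.τ 11 from vpz11).trans (one_mul _).symm) (List.Forall₂.cons ((show ev (atm 3 fP) [3, 0, 3, 3, 0, 2, 2, 0, 3, 3, 0, 3, 0, 3, 3, 1, 2, 2] = U.τ 13 from vpz13).trans (one_mul _).symm) (List.Forall₂.nil)))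
theorem reach55 : Reach (U.lsub W49) 196 M53 := (Reach.grow hU (Reach.base _ 196) gr54)
theorem orb58 : (orbS (U.lsub W49) 196).ncard = 504 := reach55.ncard hU cl56 sz57
theorem orb58e : orbS (U.lsub W49) 196 = {c | Nat.testBit M53 c = true} := reach55.orb hU cl56
theorem reach64 : Reach (U.lsub W59) 16 M62 := (Reach.grow hU (Reach.base _ 16) gr63)
theorem orb67 : (orbS (U.lsub W59) 16).ncard = 125 := reach64.ncard hU cl65 sz66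
theorem orb67e : orbS (U.lsub W59) 16 = {c | Nat.testBit M62 c = true} := reach64.orb hU cl65
theorem reach72 : Reach (U.lsub W68) 7 M70 := (Reach.grow hU (Reach.base _ 7) gr71)
theorem orb75 : (orbS (U.lsub W68) 7).ncard = 2 := reach72.ncard hU cl73 sz74
theorem orb75e : orbS (U.lsub W68) 7 = {c | Nat.testBit M70 c = true} := reach72.orb hU cl73
theorem lbS176 : 2 ∣ Nat.card (U.lsub W68) := dvd_card_orb orb75
theorem lbS177 : 250 ∣ Nat.card (U.lsub W59) :=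
  dvd_card_step (s := 125) (M := 2) (B := U.lsub W68) (Tab.lsub_le_all (AllP.cons (mem_of_rel (hU.one rel61) (U.mem_letters (by decide))) (AllP.nil))) (hU.fixes fx69) orb67 lbS176
theorem lbS1 : 126000 ∣ Nat.card (U.lsub W49) :=
  dvd_card_step (s := 504) (M := 250) (B := U.lsub W59) (Tab.lsub_le_all (AllP.cons (mem_of_rel (hU.one rel50) (U.mem_letters (by decide))) (AllP.cons (mem_of_rel (hU.one rel51) (U.mem_letters (by decide))) (AllP.cons (mem_of_rel (hU.one rel52) (U.mem_letters (by decide))) (AllP.nil))))) (hU.fixes fx60) orb58 lbS177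
theorem cardS1 : 126000 ∣ Nat.card (wsub 3 p [[3, 0, 3, 0, 2, 0, 2, 2, 0, 3, 3, 0, 3, 0, 2, 2, 1, 3, 1, 3], [3, 0, 3, 3, 0, 2, 2, 0, 3, 3, 0, 3, 0, 3, 3, 1, 2, 2]]) := by
  rw [card_wsub_lift, eS1]; exact lbS1
theorem eS2 : wsub 3 fP [[0, 2, 0, 2, 0, 3, 0, 3, 3, 0, 2, 2, 4, 2, 0, 2, 1], [3, 3, 4, 2, 0, 2, 0, 3, 4, 3, 3, 4, 0, 3, 0, 3, 1]] = U.lsub W78 :=
  lsub_eq_of_all₂ (show List.Forall₂ _ [[0, 2, 0, 2, 0, 3, 0, 3, 3, 0, 2, 2, 4, 2, 0, 2, 1], [3, 3, 4, 2, 0, 2, 0, 3, 4, 3, 3, 4, 0, 3, 0, 3, 1]] [[15], [17]] from List.Forall₂.cons ((show ev (atm 3 fP) [0, 2, 0, 2, 0, 3, 0, 3, 3, 0, 2, 2, 4, 2, 0, 2, 1] = U.τ 15 from vpz15).trans (one_mul _).symm) (List.Forall₂.cons ((show ev (atm 3 fP) [3, 3, 4, 2, 0, 2, 0, 3, 4, 3, 3, 4, 0, 3, 0, 3, 1] = U.τ 17 from vpz17).trans (one_mul _).symm) (List.Forall₂.nil)))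
theorem reach83 : Reach (U.lsub W78) 6 M81 := (Reach.grow hU (Reach.base _ 6) gr82)
theorem orb86 : (orbS (U.lsub W78) 6).ncard = 672 := reach83.ncard hU cl84 sz85
theorem orb86e : orbS (U.lsub W78) 6 = {c | Nat.testBit M81 c = true} := reach83.orb hU cl84
theorem reach91 : Reach (U.lsub W87) 1161 M89 := (Reach.grow hU (Reach.base _ 1161) gr90)
theorem orb94 : (orbS (U.lsub W87) 1161).ncard = 60 := reach91.ncard hU cl92 sz93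
theorem orb94e : orbS (U.lsub W87) 1161 = {c | Nat.testBit M89 c = true} := reach91.orb hU cl92
theorem reach99 : Reach (U.lsub W95) 0 M97 := (Reach.grow hU (Reach.base _ 0) gr98)
theorem orb102 : (orbS (U.lsub W95) 0).ncard = 2 := reach99.ncard hU cl100 sz101
theorem orb102e : orbS (U.lsub W95) 0 = {c | Nat.testBit M97 c = true} := reach99.orb hU cl100
theorem lbS2103 : 2 ∣ Nat.card (U.lsub W95) := dvd_card_orb orb102
theorem lbS2104 : 120 ∣ Nat.card (U.lsub W87) :=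
  dvd_card_step (s := 60) (M := 2) (B := U.lsub W95) (U.lsub_sub (by decide)) (hU.fixes fx96) orb94 lbS2103
theorem lbS2 : 80640 ∣ Nat.card (U.lsub W78) :=
  dvd_card_step (s := 672) (M := 120) (B := U.lsub W87) (Tab.lsub_le_all (AllP.cons (mem_of_rel (hU.one rel79) (U.mem_letters (by decide))) (AllP.cons (mem_of_rel (hU.one rel80) (U.mem_letters (by decide))) (AllP.nil)))) (hU.fixes fx88) orb86 lbS2104
theorem cardS2 : 80640 ∣ Nat.card (wsub 3 p [[0, 2, 0, 2, 0, 3, 0, 3, 3, 0, 2, 2, 4, 2, 0, 2, 1], [3, 3, 4, 2, 0, 2, 0, 3, 4, 3, 3, 4, 0, 3, 0, 3, 1]]) := by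
  rw [card_wsub_lift, eS2]; exact lbS2
theorem eS3 : wsub 3 fP [[4, 2, 1, 2, 0, 3, 0, 3, 0, 2, 0, 2, 0, 2, 2, 1, 3], [4, 1, 3, 3, 0, 2, 0, 2, 4, 0, 2, 2, 4, 2, 2, 5, 2, 2]] = U.lsub W105 :=
  lsub_eq_of_all₂ (show List.Forall₂ _ [[4, 2, 1, 2, 0, 3, 0, 3, 0, 2, 0, 2, 0, 2, 2, 1, 3], [4, 1, 3, 3, 0, 2, 0, 2, 4, 0, 2, 2, 4, 2, 2, 5, 2, 2]] [[19], [21]] from List.Forall₂.cons ((show ev (atm 3 fP) [4, 2, 1, 2, 0, 3, 0, 3, 0, 2, 0, 2, 0, 2, 2, 1, 3] = U.τ 19 from vpz19).trans (one_mul _).symm) (List.Forall₂.cons ((show ev (atm 3 fP) [4, 1, 3, 3, 0, 2, 0, 2, 4, 0, 2, 2, 4, 2, 2, 5, 2, 2] = U.τ 21 from vpz21).trans (one_mul _).symm) (List.Forall₂.nil)))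
theorem reach110 : Reach (U.lsub W105) 16 M108 := (Reach.grow hU (Reach.base _ 16) gr109)
theorem orb113 : (orbS (U.lsub W105) 16).ncard = 504 := reach110.ncard hU cl111 sz112
theorem orb113e : orbS (U.lsub W105) 16 = {c | Nat.testBit M108 c = true} := reach110.orb hU cl111
theorem reach118 : Reach (U.lsub W114) 17 M116 := (Reach.grow hU (Reach.base _ 17) gr117)
theorem orb121 : (orbS (U.lsub W114) 17).ncard = 10 := reach118.ncard hU cl119 sz120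
theorem orb121e : orbS (U.lsub W114) 17 = {c | Nat.testBit M116 c = true} := reach118.orb hU cl119
theorem lbS3122 : 10 ∣ Nat.card (U.lsub W114) := dvd_card_orb orb121
theorem lbS3 : 5040 ∣ Nat.card (U.lsub W105) :=
  dvd_card_step (s := 504) (M := 10) (B := U.lsub W114) (Tab.lsub_le_all (AllP.cons (mem_of_rel (hU.one rel106) (U.mem_letters (by decide))) (AllP.cons (mem_of_rel (hU.one rel107) (U.mem_letters (by decide))) (AllP.nil)))) (hU.fixes fx115) orb113 lbS3122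
theorem cardS3 : 5040 ∣ Nat.card (wsub 3 p [[4, 2, 1, 2, 0, 3, 0, 3, 0, 2, 0, 2, 0, 2, 2, 1, 3], [4, 1, 3, 3, 0, 2, 0, 2, 4, 0, 2, 2, 4, 2, 2, 5, 2, 2]]) := by
  rw [card_wsub_lift, eS3]; exact lbS3
theorem eS5 : wsub 3 fP [[3, 3, 0, 3, 3, 4, 3, 4, 2, 4, 2, 0, 3, 3, 0, 3, 3, 1, 2, 2], [3, 4, 2, 4, 2, 2, 2, 0, 3, 0, 2, 0, 2, 2, 5, 3, 3, 1, 3]] = U.lsub W123 :=
  lsub_eq_of_all₂ (show List.Forall₂ _ [[3, 3, 0, 3, 3, 4, 3, 4, 2, 4, 2, 0, 3, 3, 0, 3, 3, 1, 2, 2], [3, 4, 2, 4, 2, 2, 2, 0, 3, 0, 2, 0, 2, 2, 5, 3, 3, 1, 3]] [[23], [25]] from List.Forall₂.cons ((show ev (atm 3 fP) [3, 3, 0, 3, 3, 4, 3, 4, 2, 4, 2, 0, 3, 3, 0, 3, 3, 1, 2, 2] = U.τ 23 from vpz23).trans (one_mul _).symm) (List.Forall₂.cons ((show ev (atm 3 fP) [3, 4, 2, 4, 2, 2, 2, 0, 3, 0, 2, 0, 2, 2, 5, 3, 3, 1, 3] = U.τ 25 from vpz25).trans (one_mul _).symm) (List.Forall₂.nil)))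
theorem reach128 : Reach (U.lsub W123) 17 M126 := (Reach.grow hU (Reach.base _ 17) gr127)
theorem orb131 : (orbS (U.lsub W123) 17).ncard = 360 := reach128.ncard hU cl129 sz130
theorem orb131e : orbS (U.lsub W123) 17 = {c | Nat.testBit M126 c = true} := reach128.orb hU cl129
theorem reach136 : Reach (U.lsub W132) 6 M134 := (Reach.grow hU (Reach.base _ 6) gr135)
theorem orb139 : (orbS (U.lsub W132) 6).ncard = 4 := reach136.ncard hU cl137 sz138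
theorem orb139e : orbS (U.lsub W132) 6 = {c | Nat.testBit M134 c = true} := reach136.orb hU cl137
theorem lbS5140 : 4 ∣ Nat.card (U.lsub W132) := dvd_card_orb orb139
theorem lbS5 : 1440 ∣ Nat.card (U.lsub W123) :=
  dvd_card_step (s := 360) (M := 4) (B := U.lsub W132) (Tab.lsub_le_all (AllP.cons (mem_of_rel (hU.one rel124) (U.mem_letters (by decide))) (AllP.cons (mem_of_rel (hU.one rel125) (U.mem_letters (by decide))) (AllP.nil)))) (hU.fixes fx133) orb131 lbS5140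
theorem cardS5 : 1440 ∣ Nat.card (wsub 3 p [[3, 3, 0, 3, 3, 4, 3, 4, 2, 4, 2, 0, 3, 3, 0, 3, 3, 1, 2, 2], [3, 4, 2, 4, 2, 2, 2, 0, 3, 0, 2, 0, 2, 2, 5, 3, 3, 1, 3]]) := by
  rw [card_wsub_lift, eS5]; exact lbS5
theorem eS6 : wsub 3 fP [[4, 3, 4, 2, 2, 4, 2, 2, 1, 2, 4, 2, 2, 4, 3], [3, 3, 0, 2, 2, 0, 3, 3, 0, 3, 3, 0, 3, 3, 0, 3, 3, 1, 2]] = U.lsub W141 :=
  lsub_eq_of_all₂ (show List.Forall₂ _ [[4, 3, 4, 2, 2, 4, 2, 2, 1, 2, 4, 2, 2, 4, 3], [3, 3, 0, 2, 2, 0, 3, 3, 0, 3, 3, 0, 3, 3, 0, 3, 3, 1, 2]] [[27], [29]] from List.Forall₂.cons ((show ev (atm 3 fP) [4, 3, 4, 2, 2, 4, 2, 2, 1, 2, 4, 2, 2, 4, 3] = U.τ 27 from vpz27).trans (one_mul _).symm) (List.Forall₂.cons ((show ev (atm 3 fP) [3, 3, 0, 2, 2, 0, 3, 3, 0, 3, 3, 0, 3, 3, 0, 3, 3, 1, 2] = U.τ 29 from vpz29).trans (one_mul _).symm) (List.Forall₂.nil)))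
theorem reach145 : Reach (U.lsub W141) 15 M143 := (Reach.grow hU (Reach.base _ 15) gr144)
theorem orb148 : (orbS (U.lsub W141) 15).ncard = 250 := reach145.ncard hU cl146 sz147
theorem orb148e : orbS (U.lsub W141) 15 = {c | Nat.testBit M143 c = true} := reach145.orb hU cl146
theorem reach153 : Reach (U.lsub W149) 6 M151 := (Reach.grow hU (Reach.base _ 6) gr152)
theorem orb156 : (orbS (U.lsub W149) 6).ncard = 2 := reach153.ncard hU cl154 sz155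
theorem orb156e : orbS (U.lsub W149) 6 = {c | Nat.testBit M151 c = true} := reach153.orb hU cl154
theorem lbS6157 : 2 ∣ Nat.card (U.lsub W149) := dvd_card_orb orb156
theorem lbS6 : 500 ∣ Nat.card (U.lsub W141) :=
  dvd_card_step (s := 250) (M := 2) (B := U.lsub W149) (Tab.lsub_le_all (AllP.cons (mem_of_rel (hU.one rel142) (U.mem_letters (by decide))) (AllP.nil))) (hU.fixes fx150) orb148 lbS6157
theorem cardS6 : 500 ∣ Nat.card (wsub 3 p [[4, 3, 4, 2, 2, 4, 2, 2, 1, 2, 4, 2, 2, 4, 3], [3, 3, 0, 2, 2, 0, 3, 3, 0, 3, 3, 0, 3, 3, 0, 3, 3, 1, 2]]) := by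
  rw [card_wsub_lift, eS6]; exact lbS6
theorem eS7 : wsub 3 fP [[3, 0, 3, 4, 3, 0, 3, 3, 0, 3, 0, 3, 0, 3], [3, 1, 3, 3, 0, 2, 2]] = U.lsub W158 :=
  lsub_eq_of_all₂ (show List.Forall₂ _ [[3, 0, 3, 4, 3, 0, 3, 3, 0, 3, 0, 3, 0, 3], [3, 1, 3, 3, 0, 2, 2]] [[31], [33]] from List.Forall₂.cons ((show ev (atm 3 fP) [3, 0, 3, 4, 3, 0, 3, 3, 0, 3, 0, 3, 0, 3] = U.τ 31 from vpz31).trans (one_mul _).symm) (List.Forall₂.cons ((show ev (atm 3 fP) [3, 1, 3, 3, 0, 2, 2] = U.τ 33 from vpz33).trans (one_mul _).symm) (List.Forall₂.nil)))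
theorem reach162 : Reach (U.lsub W158) 16 M160 := (Reach.grow hU (Reach.base _ 16) gr161)
theorem orb165 : (orbS (U.lsub W158) 16).ncard = 120 := reach162.ncard hU cl163 sz164
theorem orb165e : orbS (U.lsub W158) 16 = {c | Nat.testBit M160 c = true} := reach162.orb hU cl163
theorem reach170 : Reach (U.lsub W166) 4 M168 := (Reach.grow hU (Reach.base _ 4) gr169)
theorem orb173 : (orbS (U.lsub W166) 4).ncard = 2 := reach170.ncard hU cl171 sz172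
theorem orb173e : orbS (U.lsub W166) 4 = {c | Nat.testBit M168 c = true} := reach170.orb hU cl171
theorem lbS7174 : 2 ∣ Nat.card (U.lsub W166) := dvd_card_orb orb173
theorem lbS7 : 240 ∣ Nat.card (U.lsub W158) :=
  dvd_card_step (s := 120) (M := 2) (B := U.lsub W166) (Tab.lsub_le_all (AllP.cons (mem_of_rel (hU.one rel159) (U.mem_letters (by decide))) (AllP.nil))) (hU.fixes fx167) orb165 lbS7174
theorem cardS7 : 240 ∣ Nat.card (wsub 3 p [[3, 0, 3, 4, 3, 0, 3, 3, 0, 3, 0, 3, 0, 3], [3, 1, 3, 3, 0, 2, 2]]) := by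
  rw [card_wsub_lift, eS7]; exact lbS7
theorem eS8 : wsub 3 fP [[2, 2, 4, 2, 2, 0, 3, 3, 4, 3, 3, 4, 0, 2, 2, 1, 2, 2, 1, 3, 3, 5, 3, 3], [4, 3, 1, 2, 0, 2, 4, 2, 4, 2, 0, 2, 4, 3, 5, 3, 3, 1, 2, 2]] = U.lsub W175 :=
  lsub_eq_of_all₂ (show List.Forall₂ _ [[2, 2, 4, 2, 2, 0, 3, 3, 4, 3, 3, 4, 0, 2, 2, 1, 2, 2, 1, 3, 3, 5, 3, 3], [4, 3, 1, 2, 0, 2, 4, 2, 4, 2, 0, 2, 4, 3, 5, 3, 3, 1, 2, 2]] [[35], [37]] from List.Forall₂.cons ((show ev (atm 3 fP) [2, 2, 4, 2, 2, 0, 3, 3, 4, 3, 3, 4, 0, 2, 2, 1, 2, 2, 1, 3, 3, 5, 3, 3] = U.τ 35 from vpz35).trans (one_mul _).symm) (List.Forall₂.cons ((show ev (atm 3 fP) [4, 3, 1, 2, 0, 2, 4, 2, 4, 2, 0, 2, 4, 3, 5, 3, 3, 1, 2, 2] = U.τ 37 from vpz37).trans (one_mul _).symm) (List.Forall₂.nil)))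
theorem reach179 : Reach (U.lsub W175) 4 M177 := (Reach.grow hU (Reach.base _ 4) gr178)
theorem orb182 : (orbS (U.lsub W175) 4).ncard = 320 := reach179.ncard hU cl180 sz181
theorem orb182e : orbS (U.lsub W175) 4 = {c | Nat.testBit M177 c = true} := reach179.orb hU cl180
theorem reach187 : Reach (U.lsub W183) 7 M185 := (Reach.grow hU (Reach.base _ 7) gr186)
theorem orb190 : (orbS (U.lsub W183) 7).ncard = 2 := reach187.ncard hU cl188 sz189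
theorem orb190e : orbS (U.lsub W183) 7 = {c | Nat.testBit M185 c = true} := reach187.orb hU cl188
theorem lbS8191 : 2 ∣ Nat.card (U.lsub W183) := dvd_card_orb orb190
theorem lbS8 : 640 ∣ Nat.card (U.lsub W175) :=
  dvd_card_step (s := 320) (M := 2) (B := U.lsub W183) (Tab.lsub_le_all (AllP.cons (mem_of_rel (hU.one rel176) (U.mem_letters (by decide))) (AllP.nil))) (hU.fixes fx184) orb182 lbS8191
theorem cardS8 : 640 ∣ Nat.card (wsub 3 p [[2, 2, 4, 2, 2, 0, 3, 3, 4, 3, 3, 4, 0, 2, 2, 1, 2, 2, 1, 3, 3, 5, 3, 3], [4, 3, 1, 2, 0, 2, 4, 2, 4, 2, 0, 2, 4, 3, 5, 3, 3, 1, 2, 2]]) := by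
  rw [card_wsub_lift, eS8]; exact lbS8
theorem eS9 : wsub 3 fP [[2, 4, 2, 4, 2, 4, 2, 2, 4, 3, 3, 4, 3, 4, 2, 5, 2, 0, 3], [1, 2, 4, 2, 0, 2, 0, 2, 4, 2, 0, 2, 2, 0, 3, 3, 5, 3, 5]] = U.lsub W192 :=
  lsub_eq_of_all₂ (show List.Forall₂ _ [[2, 4, 2, 4, 2, 4, 2, 2, 4, 3, 3, 4, 3, 4, 2, 5, 2, 0, 3], [1, 2, 4, 2, 0, 2, 0, 2, 4, 2, 0, 2, 2, 0, 3, 3, 5, 3, 5]] [[39], [41]] from List.Forall₂.cons ((show ev (atm 3 fP) [2, 4, 2, 4, 2, 4, 2, 2, 4, 3, 3, 4, 3, 4, 2, 5, 2, 0, 3] = U.τ 39 from vpz39).trans (one_mul _).symm) (List.Forall₂.cons ((show ev (atm 3 fP) [1, 2, 4, 2, 0, 2, 0, 2, 4, 2, 0, 2, 2, 0, 3, 3, 5, 3, 5] = U.τ 41 from vpz41).trans (one_mul _).symm) (List.Forall₂.nil)))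
theorem reach197 : Reach (U.lsub W192) 0 M195 := (Reach.grow hU (Reach.base _ 0) gr196)
theorem orb200 : (orbS (U.lsub W192) 0).ncard = 1280 := reach197.ncard hU cl198 sz199
theorem orb200e : orbS (U.lsub W192) 0 = {c | Nat.testBit M195 c = true} := reach197.orb hU cl198
theorem reach205 : Reach (U.lsub W201) 18 M203 := (Reach.grow hU (Reach.base _ 18) gr204)
theorem orb208 : (orbS (U.lsub W201) 18).ncard = 24 := reach205.ncard hU cl206 sz207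
theorem orb208e : orbS (U.lsub W201) 18 = {c | Nat.testBit M203 c = true} := reach205.orb hU cl206
theorem lbS9209 : 24 ∣ Nat.card (U.lsub W201) := dvd_card_orb orb208
theorem lbS9 : 30720 ∣ Nat.card (U.lsub W192) :=
  dvd_card_step (s := 1280) (M := 24) (B := U.lsub W201) (Tab.lsub_le_all (AllP.cons (mem_of_rel (hU.one rel193) (U.mem_letters (by decide))) (AllP.cons (mem_of_rel (hU.one rel194) (U.mem_letters (by decide))) (AllP.nil)))) (hU.fixes fx202) orb200 lbS9209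
theorem cardS9 : 30720 ∣ Nat.card (wsub 3 p [[2, 4, 2, 4, 2, 4, 2, 2, 4, 3, 3, 4, 3, 4, 2, 5, 2, 0, 3], [1, 2, 4, 2, 0, 2, 0, 2, 4, 2, 0, 2, 2, 0, 3, 3, 5, 3, 5]]) := by
  rw [card_wsub_lift, eS9]; exact lbS9

end Cfsg.Agent.Spor.HNP.VB
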